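import Groth.Agent.LineGrp.Points
import Groth.Prelude.Def_AlgGrp
import Mathlib.AlgebraicGeometry.Morphisms.Finite
import Mathlib.AlgebraicGeometry.Morphisms.Flat
import Mathlib.Algebra.Category.Ring.Epi
import Mathlib.RingTheory.Flat.TorsionFree
import Mathlib.RingTheory.Spectrum.Prime.Topology

/-!
# Endomorphisms of affine groups over an affine base from coordinates, and their kernels
-/

set_option autoImplicit false
set_option backward.isDefEq.respectTransparency false

universe u

open CategoryTheory CategoryTheory.Limits MonoidalCategory CartesianMonoidalCategory AlgebraicGeometry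
open scoped MonObj GrpObj

noncomputable section

namespace Groth.Agent.LineIsog

open Groth.Agent.LineGrp (specA mapA)

variable {k : Type u} [CommRing k]

theorem exists_mapA {A B : Type u} [CommRing A] [Algebra k A] [CommRing B] [Algebra k B]
    (g : specA k B ⟶ specA k A) : ∃ f : A →ₐ[k] B, g = mapA f := by
  have hw : CommRingCat.ofHom (algebraMap k A) ≫ Spec.preimage g.left = CommRingCat.ofHom (algebraMap k B) := by
    apply Spec.map_injective
    rw [Spec.map_comp, Spec.map_preimage]
    exact Over.w g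
  refine ⟨{ (Spec.preimage g.left).hom with
    commutes' := fun r => congr($hw r) }, ?_⟩
  ext : 1
  exact (Spec.map_preimage g.left).symm

theorem mapA_injective {A B : Type u} [CommRing A] [Algebra k A] [CommRing B] [Algebra k B]
    {f g : A →ₐ[k] B} (h : mapA f = mapA g) : f = g :=
  AlgHom.coe_ringHom_injective
    (congrArg CommRingCat.Hom.hom (Spec.map_injective (congrArg CommaMorphism.left h)))

theorem mapA_comp {A B C : Type u} [CommRing A] [Algebra k A] [CommRing B] [Algebra k B]
    [CommRing C] [Algebra k C] (f : A →ₐ[k] B) (g : B →ₐ[k] C) : mapA g ≫ mapA f = mapA (g.comp f) := by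
  ext : 1
  show Spec.map _ ≫ Spec.map _ = Spec.map _
  rw [← Spec.map_comp]
  rfl

theorem mapA_id {A : Type u} [CommRing A] [Algebra k A] : mapA (AlgHom.id k A) = 𝟙 (specA k A) := by
  ext : 1
  show Spec.map (𝟙 _) = 𝟙 _
  exact Spec.map_id _

theorem exists_specA (X : Over (Spec (CommRingCat.of k))) [IsAffine X.left] :
    ∃ (A : Type u) (_ : CommRing A) (_ : Algebra k A), Nonempty (specA k A ≅ X) := by
  let e := X.left.isoSpec
  obtain ⟨s, hs⟩ := Spec.map_surjective (e.inv ≫ X.hom)
  algebraize [s.hom]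
  exact ⟨Γ(X.left, ⊤), inferInstance, s.hom.toAlgebra, ⟨Over.isoMk e.symm (by
    show e.inv ≫ _ = Spec.map (CommRingCat.ofHom s.hom)
    rw [CommRingCat.ofHom_hom, hs])⟩⟩

/-- An arbitrary scheme over `k` maps to an affine one through which maps to affines factor uniquely. -/
theorem exists_affinization (T : Over (Spec (CommRingCat.of k))) :
    ∃ (B : Type u) (_ : CommRing B) (_ : Algebra k B) (τ : T ⟶ specA k B),
      ∀ (X : Over (Spec (CommRingCat.of k))) [IsAffine X.left],
        Function.Bijective fun g : specA k B ⟶ X => τ ≫ g := by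
  obtain ⟨s, hs⟩ := Spec.map_surjective (Spec.map T.hom.appTop ≫ (Spec (CommRingCat.of k)).isoSpec.inv)
  refine ⟨Γ(T.left, ⊤), inferInstance, s.hom.toAlgebra, Over.homMk T.left.toSpecΓ ?_, fun X _ => ?_⟩
  · show T.left.toSpecΓ ≫ Spec.map s = T.hom
    rw [hs, ← Scheme.toSpecΓ_naturality_assoc]
    exact (congrArg (T.hom ≫ ·) (Spec (CommRingCat.of k)).isoSpec.hom_inv_id).trans (Category.comp_id _)
  constructor
  · intro g g' h
    have h' : T.left.toSpecΓ ≫ g.left = T.left.toSpecΓ ≫ g'.left := congrArg CommaMorphism.left h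
    ext : 1
    refine AlgebraicGeometry.ext_of_isAffine ?_
    have := congrArg Scheme.Hom.appTop h'
    simp only [Scheme.Hom.comp_appTop, Scheme.toSpecΓ_appTop] at this
    exact (cancel_mono _).mp this
  · intro t
    have e : T.left.toSpecΓ ≫ Spec.map t.left.appTop ≫ X.left.isoSpec.inv = t.left := by
      rw [← Scheme.toSpecΓ_naturality_assoc]
      exact (congrArg (t.left ≫ ·) X.left.isoSpec.hom_inv_id).trans (Category.comp_id _)
    refine ⟨Over.homMk (Spec.map t.left.appTop ≫ X.left.isoSpec.inv) ?_, Over.OverMorphism.ext e⟩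
    show _ = Spec.map s
    rw [Category.assoc, hs, ← Scheme.isoSpec_inv_naturality, ← Spec.map_comp_assoc]
    congr 2
    rw [← Scheme.Hom.comp_appTop]
    exact congrArg Scheme.Hom.appTop (Over.w t)

theorem isIso_of_bijective {A : Type u} [CommRing A] [Algebra k A] {X : Over (Spec (CommRingCat.of k))}
    [IsAffine X.left] (q : specA k A ⟶ X)
    (h : ∀ (B : Type u) [CommRing B] [Algebra k B], Function.Bijective fun f : A →ₐ[k] B => mapA f ≫ q) :
    IsIso q := by
  obtain ⟨C, _, _, ⟨r⟩⟩ := exists_specA X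
  obtain ⟨f, hf⟩ := (h C).2 r.hom
  change mapA f ≫ q = r.hom at hf
  refine ⟨r.inv ≫ mapA f, ?_, by rw [Category.assoc, hf, r.inv_hom_id]⟩
  obtain ⟨g, hg⟩ := exists_mapA (q ≫ r.inv ≫ mapA f)
  rw [hg, (h A).1 (a₁ := g) (a₂ := AlgHom.id k A), mapA_id]
  show mapA g ≫ q = mapA (AlgHom.id k A) ≫ q
  rw [← hg, mapA_id, Category.id_comp, Category.assoc, Category.assoc]
  rw [hf, r.inv_hom_id, Category.comp_id]

theorem isMonHom_of_points {G : Over (Spec (CommRingCat.of k))} [GrpObj G] [IsAffine G.left] (φ : G ⟶ G)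
    (h : ∀ (B : Type u) [CommRing B] [Algebra k B] (x y : specA k B ⟶ G), (x * y) ≫ φ = (x ≫ φ) * (y ≫ φ)) :
    IsMonHom φ := by
  haveI : IsAffineHom G.hom := isAffineHom_of_isAffine _
  haveI : IsAffine (G ⊗ G).left := by
    show IsAffine (pullback G.hom G.hom)
    infer_instance
  obtain ⟨A, _, _, ⟨r⟩⟩ := exists_specA (G ⊗ G)
  have hm : MonObj.mul (X := G) ≫ φ = (φ ⊗ₘ φ) ≫ MonObj.mul (X := G) := by
    rw [← cancel_epi r.hom]
    have := h A (r.hom ≫ fst G G) (r.hom ≫ snd G G)
    rw [Hom.mul_def, Hom.mul_def, Category.assoc] at this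
    rw [← comp_lift, lift_fst_snd, Category.comp_id] at this
    rw [this, ← Category.assoc r.hom]
    congr 1
    rw [Category.assoc, Category.assoc, ← comp_lift]
    congr 1
    all_goals rw [lift_fst_comp_snd_comp]
  refine ⟨?_, hm⟩
  have h1 : (MonObj.one (X := G) ≫ φ) * (MonObj.one (X := G) ≫ φ) = MonObj.one (X := G) ≫ φ := by
    have hone : (1 : 𝟙_ (Over (Spec (CommRingCat.of k))) ⟶ G) = MonObj.one (X := G) := by
      rw [Hom.one_def, Subsingleton.elim (toUnit _) (𝟙 _), Category.id_comp]
    conv_rhs => rw [← hone, ← _root_.one_mul (1 : 𝟙_ (Over (Spec (CommRingCat.of k))) ⟶ G), hone]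
    rw [Hom.mul_def, Hom.mul_def, Category.assoc, hm, ← Category.assoc, lift_map]
  rw [mul_eq_left.mp h1, Hom.one_def, Subsingleton.elim (toUnit _) (𝟙 _), Category.id_comp]

theorem isKernel_of_points {G : Over (Spec (CommRingCat.of k))} [GrpObj G] [IsAffine G.left]
    {A₀ A : Type u} [CommRing A₀] [Algebra k A₀] [CommRing A] [Algebra k A]
    (q : specA k A₀ ≅ G) {H : Over (Spec (CommRingCat.of k))} (r : specA k A ≅ H) (i : H ⟶ G) [Mono i]
    (π : A₀ →ₐ[k] A) (hπ : Function.Surjective π) (hi : r.hom ≫ i = mapA π ≫ q.hom) (φ : G ⟶ G)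
    (h1 : mapA π ≫ q.hom ≫ φ = 1)
    (hker : ∀ (B : Type u) [CommRing B] [Algebra k B] (f : A₀ →ₐ[k] B), mapA f ≫ q.hom ≫ φ = 1 →
      RingHom.ker π ≤ RingHom.ker f) :
    AlgGrp.IsKernel i φ := by
  have hu : ∀ (T : Over (Spec (CommRingCat.of k))), (1 : T ⟶ G) = toUnit T ≫ MonObj.one (X := G) :=
    fun T => Hom.one_def
  have w : i ≫ φ = toUnit H ≫ MonObj.one (X := G) := by
    rw [← hu, ← cancel_epi r.hom, ← Category.assoc, hi, Category.assoc, h1, MonObj.comp_one]
  have hl : ∀ s : PullbackCone φ (MonObj.one (X := G)), ∃ l : s.pt ⟶ H, l ≫ i = s.fst := by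
    intro s
    obtain ⟨B, _, _, τ, hτ⟩ := exists_affinization s.pt
    obtain ⟨t, ht⟩ := (hτ G).2 s.fst
    obtain ⟨f, hf⟩ := exists_mapA (t ≫ q.inv)
    have hf' : t = mapA f ≫ q.hom := by rw [← hf, Category.assoc, q.inv_hom_id, Category.comp_id]
    have htφ : t ≫ φ = 1 := (hτ G).1 (by
      show τ ≫ t ≫ φ = τ ≫ (1 : specA k B ⟶ G)
      rw [← Category.assoc, MonObj.comp_one, hu, show τ ≫ t = s.fst from ht, s.condition]
      exact congrArg (· ≫ MonObj.one (X := G)) (toUnit_unique s.snd (toUnit _)))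
    let f' : A →ₐ[k] B := π.liftOfSurjective hπ f (hker B f (by rw [← Category.assoc, ← hf', htφ]))
    refine ⟨τ ≫ mapA f' ≫ r.hom, ?_⟩
    rw [Category.assoc, Category.assoc, hi, ← Category.assoc (mapA f'), mapA_comp,
      show f'.comp π = f from AlgHom.liftOfSurjective_comp _ _ _ _, ← hf']
    exact ht
  choose l hl using hl
  exact ⟨⟨w⟩, ⟨PullbackCone.IsLimit.mk w l hl (fun s => toUnit_unique _ _)
    (fun s m h₁ _ => (cancel_mono i).mp (h₁.trans (hl s).symm))⟩⟩

theorem isAffine_of_isFinite {H : Over (Spec (CommRingCat.of k))} [IsFinite H.hom] : IsAffine H.left :=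
  isAffine_of_isAffineHom H.hom

theorem surjective_of_mono {A₀ A : Type u} [CommRing A₀] [Algebra k A₀] [CommRing A] [Algebra k A]
    (π : A₀ →ₐ[k] A) (hm : Mono (mapA π)) (hfin : Module.Finite k A) : Function.Surjective π := by
  have : Epi (CommRingCat.ofHom π.toRingHom) := ⟨fun {R} g h e => by
    let a : k →+* R := g.hom.comp (algebraMap k A)
    letI : Algebra k R := a.toAlgebra
    let g' : A →ₐ[k] R := { g.hom with commutes' := fun r => rfl }
    have hc : ∀ r, h.hom (algebraMap k A r) = a r := fun r => by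
      have := congr($e (algebraMap k A₀ r))
      simp only [CommRingCat.hom_comp, RingHom.comp_apply, CommRingCat.hom_ofHom, AlgHom.toRingHom_eq_coe,
        RingHom.coe_coe, AlgHom.commutes] at this
      exact this.symm
    let h' : A →ₐ[k] R := { h.hom with commutes' := hc }
    have : g' = h' := mapA_injective ((cancel_mono (mapA π)).mp (by
      rw [mapA_comp, mapA_comp]
      congr 1
      exact AlgHom.ext fun x => congr($e x)))
    ext x
    exact congr($this x)⟩
  refine RingHom.surjective_of_epi_of_finite (CommRingCat.ofHom π.toRingHom) ?_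
  algebraize [π.toRingHom]
  haveI : IsScalarTower k A₀ A := .of_algebraMap_eq fun r => (π.commutes r).symm
  exact Module.Finite.of_restrictScalars_finite k A₀ A

theorem flat_of_injective {R S : Type u} [CommRing R] [CommRing S] [IsDomain S] [IsDedekindDomain R] (f : R →+* S)
    (hf : Function.Injective f) : f.Flat := by
  algebraize [f]
  have : Module.IsTorsionFree R S := Module.isTorsionFree_iff_smul_eq_zero.mpr fun c x h => by
    rw [Algebra.smul_def, mul_eq_zero] at h
    exact h.imp (fun h => hf (h.trans (map_zero f).symm)) id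
  exact (inferInstance : Module.Flat R S)

end Groth.Agent.LineIsog
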