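import Groth.Agent.LineIsog.Basic
import Groth.Agent.LineGrp.Ga
import Mathlib.RingTheory.AdjoinRoot
import Mathlib.FieldTheory.Minpoly.Basic

/-!
# Finite subgroups of the additive group are kernels of isogenies
-/

set_option autoImplicit false
set_option backward.isDefEq.respectTransparency false

universe u

open CategoryTheory CategoryTheory.Limits MonoidalCategory CartesianMonoidalCategory AlgebraicGeometry Polynomial
open scoped MonObj GrpObj TensorProduct

noncomputable section

namespace Groth.Agent.LineIsog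

open Groth.Agent.LineGrp

theorem taylor_sum {k D : Type u} [Field k] [CommRing D] [Algebra k D] (P : k[X]) (u v : D) :
    aeval (u + v) P = ∑ j ∈ Finset.range (P.natDegree + 1), aeval u (hasseDeriv j P) * v ^ j := by
  let P' := P.map (algebraMap k D)
  have hmap : ∀ j, hasseDeriv j P' = (hasseDeriv j P).map (algebraMap k D) := fun j => by
    ext i
    simp [P', hasseDeriv_coeff]
  have hd : (taylor u P').natDegree < P.natDegree + 1 := by
    rw [natDegree_taylor]
    exact Nat.lt_succ_of_le natDegree_map_le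
  rw [aeval_def, ← eval_map, add_comm u v, ← taylor_eval, eval_eq_sum_range' hd]
  refine Finset.sum_congr rfl fun j _ => ?_
  rw [taylor_coeff, hmap, eval_map, aeval_def]

/-- A monic polynomial with `P(a ⊗ 1 + 1 ⊗ a) = 0` modulo itself is additive. -/
theorem additive_of_tensor {k A : Type u} [Field k] [CommRing A] [Algebra k A] (a : A)
    (ha : IsIntegral k a) (hn : 0 < (minpoly k a).natDegree) (h0 : (minpoly k a).coeff 0 = 0)
    (h : aeval (a ⊗ₜ[k] (1 : A) + (1 : A) ⊗ₜ[k] a) (minpoly k a) = 0)
    {B : Type u} [CommRing B] [Algebra k B] (x y : B) :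
    aeval (x + y) (minpoly k a) = aeval x (minpoly k a) + aeval y (minpoly k a) := by
  classical
  set P := minpoly k a with hP
  set n := P.natDegree with hn'
  have hlc : P.coeff n = 1 := minpoly.monic ha
  let q : ℕ → k[X] := fun j => hasseDeriv j P - C (P.coeff j)
  have expand : ∀ {D : Type u} [CommRing D] [Algebra k D] (u v : D),
      aeval (u + v) P = aeval u P + aeval v P + ∑ j ∈ Finset.Ico 1 n, aeval u (q j) * v ^ j := by
    intro D _ _ u v
    have e1 : aeval v P = ∑ j ∈ Finset.range (n + 1), algebraMap k D (P.coeff j) * v ^ j := by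
      rw [aeval_eq_sum_range]
      simp [Algebra.smul_def, ← hn']
    have e2 : aeval u (hasseDeriv n P) = 1 := by
      rw [show hasseDeriv n P = C (P.coeff n) by
        rw [eq_C_of_natDegree_le_zero ((natDegree_hasseDeriv_le P n).trans (by rw [← hn', Nat.sub_self])),
          hasseDeriv_coeff]
        simp, aeval_C, hlc, map_one]
    rw [taylor_sum, e1, Finset.sum_range_succ, Finset.range_eq_Ico, Finset.sum_eq_sum_Ico_succ_bot hn,
      Finset.sum_range_succ, Finset.range_eq_Ico, Finset.sum_eq_sum_Ico_succ_bot hn, e2, hlc, h0, hasseDeriv_zero']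
    simp only [q, map_sub, aeval_C, sub_mul, Finset.sum_sub_distrib, map_zero, map_one, pow_zero, mul_one,
      one_mul, zero_add]
    ring
  have li := linearIndependent_pow (K := k) a
  have hq : ∀ j ∈ Finset.Ico 1 n, q j = 0 := by
    intro j hj
    rw [Finset.mem_Ico] at hj
    have e := expand (a ⊗ₜ[k] (1 : A)) ((1 : A) ⊗ₜ[k] a)
    rw [show a ⊗ₜ[k] (1 : A) = (Algebra.TensorProduct.includeLeft : A →ₐ[k] A ⊗[k] A) a from rfl] at e
    simp only [aeval_algHom_apply] at e
    rw [show (1 : A) ⊗ₜ[k] a = (Algebra.TensorProduct.includeRight : A →ₐ[k] A ⊗[k] A) a from rfl] at e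
    simp only [aeval_algHom_apply, hP, minpoly.aeval, map_zero, zero_add] at e
    rw [← hP] at e
    simp only [Algebra.TensorProduct.includeLeft_apply, Algebra.TensorProduct.includeRight_apply, h,
      Algebra.TensorProduct.tmul_pow, one_pow, Algebra.TensorProduct.tmul_mul_tmul, mul_one, one_mul] at e
    let fi : Fin n → k := fun i => if (i : ℕ) = j then 1 else 0
    obtain ⟨l, hl⟩ : ∃ l : A →ₗ[k] k, ∀ i : Fin n, l (a ^ (i : ℕ)) = fi i := by
      obtain ⟨l, hl⟩ := LinearMap.exists_extend ((Finsupp.lapply ⟨j, hj.2⟩ : (Fin n →₀ k) →ₗ[k] k) ∘ₗ li.repr)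
      refine ⟨l, fun i => ?_⟩
      have e1 := LinearMap.congr_fun hl ⟨a ^ (i : ℕ), Submodule.subset_span ⟨i, rfl⟩⟩
      simp only [LinearMap.comp_apply, Submodule.subtype_apply, Finsupp.lapply_apply] at e1
      rw [e1, li.repr_eq_single i _ rfl]
      simp [fi, Finsupp.single_apply, Fin.ext_iff]
    have e' := congrArg ((TensorProduct.rid k A).toLinearMap.comp (LinearMap.lTensor A l)) e
    simp only [map_zero, map_sum, LinearMap.comp_apply, LinearEquiv.coe_coe, LinearMap.lTensor_tmul,
      TensorProduct.rid_tmul] at e'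
    rw [Finset.sum_eq_single j (fun i hi hij => by
      rw [Finset.mem_Ico] at hi
      rw [show l (a ^ i) = fi ⟨i, hi.2⟩ from hl ⟨i, hi.2⟩]
      simp [fi, hij]) (fun h' => absurd (Finset.mem_Ico.mpr hj) h')] at e'
    rw [show l (a ^ j) = fi ⟨j, hj.2⟩ from hl ⟨j, hj.2⟩] at e'
    simp only [fi, if_true, one_smul] at e'
    by_contra hne
    have h1 := natDegree_le_of_dvd (minpoly.dvd k a e'.symm) hne
    rw [← hP, ← hn'] at h1
    have h2 : (q j).natDegree ≤ n - j :=
      (natDegree_sub_le _ _).trans (max_le (natDegree_hasseDeriv_le P j) (by simp))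
    omega
  rw [expand x y, Finset.sum_eq_zero (fun j hj => by rw [hq j hj, map_zero, zero_mul]), add_zero]

section Geometry

variable {k : Type u} [Field k] [GrpObj (rep k Sym.{u})]

/-- The additive coordinate of a point. -/
def cA {B : Type u} [CommRing B] [Algebra k B] (x : specA k B ⟶ rep k Sym.{u}) : B :=
  co x gen - algebraMap k B (orig k)

theorem cA_mul {B : Type u} [CommRing B] [Algebra k B] (x y : specA k B ⟶ rep k Sym.{u}) :
    cA (x * y) = cA x + cA y := by
  have := op_mul_eq (k := k) (co x) (co y)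
  rw [op_eq, pt_co, pt_co] at this
  rw [cA, this, mk_gen, unit_gen, cA, cA]
  show _ + _ - algebraMap k B (orig k) - _ = _
  ring

theorem cA_injective {B : Type u} [CommRing B] [Algebra k B] :
    Function.Injective (cA (k := k) (B := B)) := fun x y h => by
  refine ext_co (sym_ext ?_)
  exact sub_left_inj.mp h

theorem cA_one {B : Type u} [CommRing B] [Algebra k B] : cA (1 : specA k B ⟶ rep k Sym.{u}) = 0 := by
  have := cA_mul (1 : specA k B ⟶ rep k Sym.{u}) 1
  rw [_root_.mul_one] at this
  linear_combination -this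

theorem cA_map {B B' : Type u} [CommRing B] [Algebra k B] [CommRing B'] [Algebra k B'] (f : B →ₐ[k] B')
    (x : specA k B ⟶ rep k Sym.{u}) : cA (mapA f ≫ x) = f (cA x) := by
  rw [cA, cA, co_comp, map_sub, AlgHom.commutes]
  rfl

instance isAffine_rep : IsAffine (rep k Sym.{u}).left := by
  show IsAffine (pullback (X := Spec (CommRingCat.of Sym.{u})) (Y := Spec (CommRingCat.of k))
    (Z := Spec (CommRingCat.of (ULift.{u} ℤ)))
    ((Spec (CommRingCat.of Sym.{u})).asOver (Spec (CommRingCat.of (ULift.{u} ℤ)))).hom _)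
  infer_instance

theorem exists_coord : ∃ q : specA k k[X] ≅ rep k Sym.{u}, cA q.hom = X := by
  let q : specA k k[X] ⟶ rep k Sym.{u} := pt (mk (X + C (orig k)))
  have hq : cA q = X := by
    rw [cA, co_pt, mk_gen, Polynomial.algebraMap_eq]
    ring
  have : IsIso q := isIso_of_bijective q fun B _ _ => by
    refine ⟨fun f g h => ?_, fun x => ⟨aeval (cA x), cA_injective ?_⟩⟩
    · have := congrArg cA h
      simp only [cA_map, hq] at this
      exact Polynomial.algHom_ext this
    · show cA (mapA _ ≫ q) = _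
      rw [cA_map, hq, aeval_X]
  exact ⟨asIso q, hq⟩

theorem exists_isog_Ga {H : Over (Spec (CommRingCat.of k))} [GrpObj H] (i : H ⟶ rep k Sym.{u})
    [IsMonHom i] [Mono i] [IsFinite H.hom] :
    ∃ φ : rep k Sym.{u} ⟶ rep k Sym.{u}, IsMonHom φ ∧ AlgGrp.IsKernel i φ ∧ Flat φ.left ∧ Surjective φ.left := by
  haveI := isAffine_of_isFinite (H := H)
  obtain ⟨A, _, _, ⟨r⟩⟩ := exists_specA H
  have hfin : Module.Finite k A := by
    have : IsFinite (specA k A).hom := by
      rw [← Over.w r.hom]
      infer_instance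
    exact RingHom.finite_algebraMap.mp ((IsFinite.SpecMap_iff _).mp this)
  obtain ⟨q, hq⟩ := exists_coord (k := k)
  let a : A := cA (r.hom ≫ i)
  have ha : IsIntegral k a := Algebra.IsIntegral.isIntegral a
  let π : k[X] →ₐ[k] A := aeval a
  have hi : r.hom ≫ i = mapA π ≫ q.hom := cA_injective (by rw [cA_map, hq]; exact (aeval_X a).symm)
  have hm : Mono (mapA π) := by
    have : mapA π = r.hom ≫ i ≫ q.inv := by
      rw [← Category.assoc, hi, Category.assoc, q.hom_inv_id, Category.comp_id]
    rw [this]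
    infer_instance
  have hπ : Function.Surjective π := surjective_of_mono π hm hfin
  -- the origin of `H`
  obtain ⟨ε, hε⟩ := exists_mapA ((1 : specA k k ⟶ H) ≫ r.inv)
  have hεa : ε a = 0 := by
    rw [← cA_map, ← hε, Category.assoc, r.inv_hom_id_assoc, MonObj.one_comp, cA_one]
  haveI : Nontrivial A := ⟨⟨0, 1, fun h => zero_ne_one (α := k) (by simpa using congrArg ε h)⟩⟩
  set P := minpoly k a with hP
  have hn : 0 < P.natDegree := minpoly.natDegree_pos ha
  have h0 : P.coeff 0 = 0 := by
    have := congrArg ε (minpoly.aeval k a)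
    rw [map_zero, ← aeval_algHom_apply, hεa, aeval_def, eval₂_at_zero] at this
    simpa using this
  -- stability under addition
  have h2 : aeval (a ⊗ₜ[k] (1 : A) + (1 : A) ⊗ₜ[k] a) P = 0 := by
    let x₁ := mapA (k := k) (Algebra.TensorProduct.includeLeft : A →ₐ[k] A ⊗[k] A) ≫ r.hom
    let x₂ := mapA (k := k) (Algebra.TensorProduct.includeRight : A →ₐ[k] A ⊗[k] A) ≫ r.hom
    obtain ⟨f, hf⟩ := exists_mapA ((x₁ * x₂) ≫ r.inv)
    have : f a = a ⊗ₜ[k] (1 : A) + (1 : A) ⊗ₜ[k] a := by
      rw [← cA_map, ← hf, Category.assoc, r.inv_hom_id_assoc, MonObj.mul_comp, cA_mul]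
      simp only [x₁, x₂, Category.assoc, cA_map]
      rfl
    rw [← this, aeval_algHom_apply, minpoly.aeval, map_zero]
  let Φ : k[X] →ₐ[k] k[X] := aeval P
  let φ : rep k Sym.{u} ⟶ rep k Sym.{u} := q.inv ≫ mapA Φ ≫ q.hom
  have hφ : ∀ {B : Type u} [CommRing B] [Algebra k B] (x : specA k B ⟶ rep k Sym.{u}),
      cA (x ≫ φ) = aeval (cA x) P := by
    intro B _ _ x
    obtain ⟨f, hf⟩ := exists_mapA (x ≫ q.inv)
    have hx : x = mapA f ≫ q.hom := by rw [← hf, Category.assoc, q.inv_hom_id, Category.comp_id]
    rw [hx, Category.assoc, show q.hom ≫ φ = mapA Φ ≫ q.hom from q.hom_inv_id_assoc _, cA_map, cA_map, cA_map,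
      hq, aeval_X, aeval_algHom_apply, aeval_X_left_apply]
  have hinj : Function.Injective Φ := fun z w h => by
    rw [← sub_eq_zero]
    have h' : (z - w).comp P = 0 := by rw [comp_eq_aeval]; show Φ (z - w) = 0; rw [map_sub, h, sub_self]
    rcases comp_eq_zero_iff.mp h' with h'' | ⟨-, h''⟩
    · exact h''
    · rw [h'', natDegree_C] at hn; omega
  refine ⟨φ, isMonHom_of_points φ fun B _ _ x y => cA_injective ?_, ?_, ?_, ?_⟩
  · rw [hφ, cA_mul, cA_mul, hφ, hφ]
    exact additive_of_tensor a ha hn h0 h2 _ _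
  · refine isKernel_of_points q r i π hπ hi φ (cA_injective ?_) fun B _ _ f hf => ?_
    · rw [← Category.assoc, hφ, cA_one, cA_map, hq, aeval_X]
      exact minpoly.aeval k a
    · intro z hz
      obtain ⟨w, rfl⟩ := minpoly.dvd k a (RingHom.mem_ker.mp hz)
      have := congrArg cA hf
      rw [← Category.assoc, hφ, cA_one, cA_map, hq] at this
      have hP0 : f P = 0 := by
        rw [← this]
        conv_lhs => rw [← aeval_X_left_apply P]
        exact (aeval_algHom_apply f X P).symm
      rw [RingHom.mem_ker, map_mul, hP0, zero_mul]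
  · have hflat : Φ.toRingHom.Flat := flat_of_injective _ hinj
    haveI : Flat (mapA Φ).left := Flat.SpecMap_iff.mpr hflat
    show Flat (q.inv.left ≫ (mapA Φ).left ≫ q.hom.left)
    infer_instance
  · have hint : Φ.toRingHom.IsIntegral := by
      have hX : Φ.toRingHom.IsIntegralElem X := by
        refine ⟨P.map (C : k →+* k[X]) - C X, ?_, ?_⟩
        · refine (Monic.sub_of_left ((minpoly.monic ha).map _) ?_)
          rw [degree_map_eq_of_injective C_injective, degree_eq_natDegree (minpoly.ne_zero ha)]
          exact lt_of_le_of_lt degree_C_le (Nat.cast_pos.mpr hn)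
        · rw [eval₂_sub, eval₂_C, eval₂_map]
          show eval₂ (Φ.toRingHom.comp C) X P - Φ X = 0
          rw [aeval_X, show Φ.toRingHom.comp C = C from RingHom.ext fun c => Φ.commutes c, eval₂_C_X, sub_self]
      intro z
      induction z using Polynomial.induction_on with
      | C c => exact ⟨X - C (C c), monic_X_sub_C _, by simp [Φ]⟩
      | add p q hp hq => exact hp.add _ hq
      | monomial n c h => rw [pow_succ, ← mul_assoc]; exact h.mul _ hX
    haveI : Surjective (mapA Φ).left := ⟨hint.comap_surjective hinj⟩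
    show Surjective (q.inv.left ≫ (mapA Φ).left ≫ q.hom.left)
    infer_instance

end Geometry

end Groth.Agent.LineIsog
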