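import Groth.Agent.LineIsog.Basic
import Groth.Agent.LineGrp.Gm
import Mathlib.FieldTheory.Minpoly.Basic
import Mathlib.RingTheory.DedekindDomain.Dvr
import Mathlib.RingTheory.Flat.Domain

/-!
# Finite subgroups of the multiplicative group are kernels of isogenies
-/

set_option autoImplicit false
set_option backward.isDefEq.respectTransparency false

universe u

open CategoryTheory CategoryTheory.Limits MonoidalCategory CartesianMonoidalCategory AlgebraicGeometry
open scoped MonObj GrpObj TensorProduct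

noncomputable section

namespace Groth.Agent.LineIsog

open Groth.Agent.LineGrp LaurentPolynomial

/-- The relations forced on the coefficients of a relation `w = -∑ cᵢ vᵢ` whose tensor square is again one. -/
theorem coeff_rel {k A : Type u} [Field k] [CommRing A] [Algebra k A] {σ : Type} [Fintype σ] [DecidableEq σ]
    (v : σ → A) (li : LinearIndependent k v) (c : σ → k)
    (h : (∑ i, c i • (v i ⊗ₜ[k] v i)) + (-∑ i, c i • v i) ⊗ₜ[k] (-∑ i, c i • v i) = 0) (i j : σ) :
    (if i = j then c i else 0) + c i * c j = 0 := by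
  have li2 : LinearIndependent k fun p : σ × σ => (v p.1) ⊗ₜ[k] (v p.2) := li.tmul_of_isDomain li
  refine Fintype.linearIndependent_iff.mp li2 (fun p => (if p.1 = p.2 then c p.1 else 0) + c p.1 * c p.2) ?_ (i, j)
  rw [TensorProduct.neg_tmul, TensorProduct.tmul_neg, neg_neg, TensorProduct.sum_tmul] at h
  refine Eq.trans ?_ h
  simp only [add_smul, Finset.sum_add_distrib, Fintype.sum_prod_type]
  congr 1
  · refine Finset.sum_congr rfl fun x _ => ?_
    simp [ite_smul]
  · refine Finset.sum_congr rfl fun x _ => ?_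
    rw [TensorProduct.tmul_sum]
    exact Finset.sum_congr rfl fun y _ => (TensorProduct.smul_tmul_smul _ _ _ _).symm

/-- A minimal polynomial of a unit which vanishes at `a ⊗ a` is `X ^ n - 1`. -/
theorem eq_one_of_tensor {k A : Type u} [Field k] [CommRing A] [Algebra k A] [Nontrivial A] (a : Aˣ)
    (ha : IsIntegral k (a : A))
    (h : Polynomial.aeval ((a : A) ⊗ₜ[k] (a : A)) (minpoly k (a : A)) = 0) :
    (a : A) ^ (minpoly k (a : A)).natDegree = 1 := by
  set P := minpoly k (a : A) with hP
  set n := P.natDegree with hn'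
  have hn : 0 < n := minpoly.natDegree_pos ha
  have hlc : P.coeff n = 1 := minpoly.monic ha
  have hc0 : P.coeff 0 ≠ 0 := fun h0 => by
    obtain ⟨Q, hQ⟩ := Polynomial.X_dvd_iff.mpr h0
    have h1 := minpoly.aeval k (a : A)
    rw [← hP, hQ, map_mul, Polynomial.aeval_X] at h1
    have h2 : Q ≠ 0 := fun hz => minpoly.ne_zero ha (by rw [← hP, hQ, hz, mul_zero])
    have h3 := Polynomial.natDegree_le_of_dvd (minpoly.dvd k (a : A) (a.isUnit.mul_right_eq_zero.mp h1)) h2
    rw [← hP, hQ, Polynomial.natDegree_mul Polynomial.X_ne_zero h2, Polynomial.natDegree_X] at h3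
    omega
  let v : Fin n → A := fun i => (a : A) ^ i.1
  have li : LinearIndependent k v := linearIndependent_pow (K := k) (a : A)
  have expand : ∀ {D : Type u} [CommRing D] [Algebra k D] (u : D),
      Polynomial.aeval u P = ∑ i : Fin n, P.coeff i.1 • u ^ i.1 + u ^ n := by
    intro D _ _ u
    rw [Polynomial.aeval_eq_sum_range, Finset.sum_range_succ, ← hn', hlc, one_smul, Finset.sum_range]
  have e1 := minpoly.aeval k (a : A)
  rw [← hP, expand] at e1
  have ea : (a : A) ^ n = -∑ i, P.coeff i.1 • v i := eq_neg_of_add_eq_zero_right e1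
  rw [expand] at h
  simp only [Algebra.TensorProduct.tmul_pow] at h
  rw [ea] at h
  have hc := coeff_rel v li (fun i => P.coeff i.1) h
  have c0 : P.coeff 0 = -1 := by
    have := hc ⟨0, hn⟩ ⟨0, hn⟩
    simp only [if_true] at this
    have h' : P.coeff 0 * (1 + P.coeff 0) = 0 := by linear_combination this
    exact eq_neg_of_add_eq_zero_right ((mul_eq_zero.mp h').resolve_left hc0)
  rw [ea, Finset.sum_eq_single (⟨0, hn⟩ : Fin n) (fun i _ hi => by
    have := hc ⟨0, hn⟩ i
    rw [if_neg (Ne.symm hi), zero_add, c0, neg_one_mul, neg_eq_zero] at this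
    rw [this, zero_smul]) (fun h' => absurd (Finset.mem_univ _) h')]
  simp [c0, v]

section

variable {k : Type u} [Field k]

/-- Evaluation at a unit. -/
def lauLift {B : Type u} [CommRing B] [Algebra k B] (b : Bˣ) : k[T;T⁻¹] →ₐ[k] B where
  __ := eval₂ (algebraMap k B) b
  commutes' r := by
    show eval₂ _ b (algebraMap k _ r) = _
    rw [LaurentPolynomial.algebraMap_apply, eval₂_C]
    rfl

theorem lauLift_toLaurent {B : Type u} [CommRing B] [Algebra k B] (b : Bˣ) (p : Polynomial k) :
    lauLift b (Polynomial.toLaurent p) = Polynomial.aeval (b : B) p :=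
  eval₂_toLaurent _ _ _

theorem lauLift_Tu {B : Type u} [CommRing B] [Algebra k B] (b : Bˣ) :
    Units.map (lauLift (k := k) b).toMonoidHom Tu = b := by
  ext
  show eval₂ _ b (T 1) = _
  rw [eval₂_T, zpow_one]

theorem lau_algHom_ext {B : Type u} [CommRing B] [Algebra k B] {f g : k[T;T⁻¹] →ₐ[k] B}
    (h : Units.map f.toMonoidHom Tu = Units.map g.toMonoidHom Tu) : f = g := by
  have h1 : f (T 1) = g (T 1) := congrArg Units.val h
  refine AlgHom.coe_ringHom_injective (IsLocalization.ringHom_ext (Submonoid.powers (Polynomial.X : Polynomial k)) ?_)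
  refine Polynomial.ringHom_ext (fun c => ?_) ?_
  · show f (Polynomial.toLaurent _) = g (Polynomial.toLaurent _)
    rw [Polynomial.toLaurent_C, show (C c : k[T;T⁻¹]) = algebraMap k _ c from rfl, f.commutes, g.commutes]
  · show f (Polynomial.toLaurent _) = g (Polynomial.toLaurent _)
    rw [Polynomial.toLaurent_X, h1]

variable [GrpObj (rep k Lau.{u})]

/-- The multiplicative coordinate of a point. -/
def cM {B : Type u} [CommRing B] [Algebra k B] (x : specA k B ⟶ rep k Lau.{u}) : Bˣ :=
  Units.map (co x).toMonoidHom genU * (Units.map (algebraMap k B).toMonoidHom (origU k))⁻¹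

theorem mkU_eta {B : Type u} [CommRing B] (χ : Lau.{u} →+* B) : mkU (Units.map χ.toMonoidHom genU) = χ :=
  lau_ext (mkU_genU _)

theorem cM_mul {B : Type u} [CommRing B] [Algebra k B] (x y : specA k B ⟶ rep k Lau.{u}) :
    cM (x * y) = cM x * cM y := by
  have := opU_formula (k := k) (Units.map (co x).toMonoidHom genU) (Units.map (co y).toMonoidHom genU)
  rw [opU, mkU_eta, mkU_eta, op_eq, pt_co, pt_co] at this
  rw [cM, this, cM, cM, mul_mul_mul_comm, ← mul_assoc]

theorem cM_injective {B : Type u} [CommRing B] [Algebra k B] :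
    Function.Injective (cM (k := k) (B := B)) := fun x y h => by
  refine ext_co (lau_ext ?_)
  exact mul_right_cancel h

theorem cM_one {B : Type u} [CommRing B] [Algebra k B] : cM (1 : specA k B ⟶ rep k Lau.{u}) = 1 := by
  have := cM_mul (1 : specA k B ⟶ rep k Lau.{u}) 1
  rw [_root_.mul_one] at this
  exact mul_eq_left.mp this.symm

theorem cM_map {B B' : Type u} [CommRing B] [Algebra k B] [CommRing B'] [Algebra k B'] (f : B →ₐ[k] B')
    (x : specA k B ⟶ rep k Lau.{u}) : cM (mapA f ≫ x) = Units.map f.toMonoidHom (cM x) := by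
  rw [cM, cM, co_comp, map_mul, map_inv]
  refine congrArg₂ (· * ·) rfl (congrArg (·⁻¹) (Units.ext ?_))
  exact (f.commutes _).symm

instance isAffine_repM : IsAffine (rep k Lau.{u}).left := by
  show IsAffine (pullback (X := Spec (CommRingCat.of Lau.{u})) (Y := Spec (CommRingCat.of k))
    (Z := Spec (CommRingCat.of (ULift.{u} ℤ)))
    ((Spec (CommRingCat.of Lau.{u})).asOver (Spec (CommRingCat.of (ULift.{u} ℤ)))).hom _)
  infer_instance

theorem exists_coordM : ∃ q : specA k k[T;T⁻¹] ≅ rep k Lau.{u}, cM q.hom = Tu := by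
  let q : specA k k[T;T⁻¹] ⟶ rep k Lau.{u} :=
    pt (mkU (Tu * Units.map (algebraMap k k[T;T⁻¹]).toMonoidHom (origU k)))
  have hq : cM q = Tu := by
    rw [cM, co_pt, mkU_genU, mul_inv_cancel_right]
  have : IsIso q := isIso_of_bijective q fun B _ _ => by
    refine ⟨fun f g h => ?_, fun x => ⟨lauLift (cM x), cM_injective ?_⟩⟩
    · have := congrArg cM h
      simp only [cM_map, hq] at this
      exact lau_algHom_ext this
    · show cM (mapA _ ≫ q) = _
      rw [cM_map, hq, lauLift_Tu]
  exact ⟨asIso q, hq⟩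

theorem exists_isog_Gm {H : Over (Spec (CommRingCat.of k))} [GrpObj H] (i : H ⟶ rep k Lau.{u})
    [IsMonHom i] [Mono i] [IsFinite H.hom] :
    ∃ φ : rep k Lau.{u} ⟶ rep k Lau.{u}, IsMonHom φ ∧ AlgGrp.IsKernel i φ ∧ Flat φ.left ∧ Surjective φ.left := by
  haveI := isAffine_of_isFinite (H := H)
  obtain ⟨A, _, _, ⟨r⟩⟩ := exists_specA H
  have hfin : Module.Finite k A := by
    have : IsFinite (specA k A).hom := by
      rw [← Over.w r.hom]
      infer_instance
    exact RingHom.finite_algebraMap.mp ((IsFinite.SpecMap_iff _).mp this)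
  obtain ⟨q, hq⟩ := exists_coordM (k := k)
  let a : Aˣ := cM (r.hom ≫ i)
  have ha : IsIntegral k (a : A) := Algebra.IsIntegral.isIntegral _
  let π : k[T;T⁻¹] →ₐ[k] A := lauLift a
  have hi : r.hom ≫ i = mapA π ≫ q.hom := cM_injective (by rw [cM_map, hq]; exact (lauLift_Tu a).symm)
  have hm : Mono (mapA π) := by
    have : mapA π = r.hom ≫ i ≫ q.inv := by
      rw [← Category.assoc, hi, Category.assoc, q.hom_inv_id, Category.comp_id]
    rw [this]
    infer_instance
  have hπ : Function.Surjective π := surjective_of_mono π hm hfin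
  obtain ⟨ε, hε⟩ := exists_mapA ((1 : specA k k ⟶ H) ≫ r.inv)
  haveI : Nontrivial A := ⟨⟨0, 1, fun h => zero_ne_one (α := k) (by simpa using congrArg ε h)⟩⟩
  set n := (minpoly k (a : A)).natDegree with hn'
  have hn : 0 < n := minpoly.natDegree_pos ha
  have h2 : Polynomial.aeval ((a : A) ⊗ₜ[k] (a : A)) (minpoly k (a : A)) = 0 := by
    let x₁ := mapA (k := k) (Algebra.TensorProduct.includeLeft : A →ₐ[k] A ⊗[k] A) ≫ r.hom
    let x₂ := mapA (k := k) (Algebra.TensorProduct.includeRight : A →ₐ[k] A ⊗[k] A) ≫ r.hom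
    obtain ⟨f, hf⟩ := exists_mapA ((x₁ * x₂) ≫ r.inv)
    have : Units.map f.toMonoidHom a =
        Units.map (Algebra.TensorProduct.includeLeft : A →ₐ[k] A ⊗[k] A).toMonoidHom a *
          Units.map (Algebra.TensorProduct.includeRight : A →ₐ[k] A ⊗[k] A).toMonoidHom a := by
      rw [← cM_map, ← hf, Category.assoc, r.inv_hom_id_assoc, MonObj.mul_comp, cM_mul]
      simp only [x₁, x₂, Category.assoc, cM_map]
      rfl
    have h' := congrArg Units.val this
    simp only [Units.coe_map, Units.val_mul] at h'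
    change f (a : A) = ((a : A) ⊗ₜ[k] (1 : A)) * ((1 : A) ⊗ₜ[k] (a : A)) at h'
    rw [Algebra.TensorProduct.tmul_mul_tmul, mul_one, one_mul] at h'
    rw [← h', Polynomial.aeval_algHom_apply, minpoly.aeval, map_zero]
  have han : (a : A) ^ n = 1 := eq_one_of_tensor a ha h2
  let Φ : k[T;T⁻¹] →ₐ[k] k[T;T⁻¹] := lauLift (Tu ^ n)
  let φ : rep k Lau.{u} ⟶ rep k Lau.{u} := q.inv ≫ mapA Φ ≫ q.hom
  have hφ : ∀ {B : Type u} [CommRing B] [Algebra k B] (x : specA k B ⟶ rep k Lau.{u}),
      cM (x ≫ φ) = cM x ^ n := by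
    intro B _ _ x
    obtain ⟨f, hf⟩ := exists_mapA (x ≫ q.inv)
    have hx : x = mapA f ≫ q.hom := by rw [← hf, Category.assoc, q.inv_hom_id, Category.comp_id]
    rw [hx, Category.assoc, show q.hom ≫ φ = mapA Φ ≫ q.hom from q.hom_inv_id_assoc _, cM_map, cM_map, cM_map,
      hq, lauLift_Tu, map_pow]
  have hpow : (((Tu : (k[T;T⁻¹])ˣ) ^ n : (k[T;T⁻¹])ˣ) : k[T;T⁻¹]) = Polynomial.toLaurent (Polynomial.X ^ n) := by
    rw [← zpow_natCast, Tu_zpow, Polynomial.toLaurent_X_pow]
  have hΦp : ∀ p, Φ (Polynomial.toLaurent p) = Polynomial.toLaurent (Polynomial.expand k n p) := fun p => by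
    rw [lauLift_toLaurent, hpow, Polynomial.expand_eq_comp_X_pow, Polynomial.comp_eq_aeval]
    exact Polynomial.aeval_algHom_apply (Polynomial.toLaurentAlg (R := k)) (Polynomial.X ^ n) p
  have hinj : Function.Injective Φ := (injective_iff_map_eq_zero Φ).mpr fun z hz => by
    obtain ⟨m, p, hp⟩ := exists_T_pow z
    have h' : Polynomial.toLaurent (Polynomial.expand k n p) = 0 := by rw [← hΦp, hp, map_mul, hz, zero_mul]
    rw [map_eq_zero_iff _ Polynomial.toLaurent_injective, Polynomial.expand_eq_zero hn] at h'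
    rw [h', map_zero] at hp
    exact (isUnit_T _).mul_left_eq_zero.mp hp.symm
  refine ⟨φ, isMonHom_of_points φ fun B _ _ x y => cM_injective ?_, ?_, ?_, ?_⟩
  · rw [hφ, cM_mul, cM_mul, hφ, hφ, mul_pow]
  · refine isKernel_of_points q r i π hπ hi φ (cM_injective ?_) fun B _ _ f hf => ?_
    · rw [← Category.assoc, hφ, cM_one, cM_map, hq, lauLift_Tu]
      ext
      rw [Units.val_pow_eq_pow_val, han, Units.val_one]
    · intro z hz
      obtain ⟨m, p, hp⟩ := exists_T_pow z
      have hpa : Polynomial.aeval (a : A) p = 0 := by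
        rw [← lauLift_toLaurent, hp, map_mul, RingHom.mem_ker.mp hz, zero_mul]
      obtain ⟨w, rfl⟩ := minpoly.dvd k (a : A) hpa
      have := congrArg cM hf
      rw [← Category.assoc, hφ, cM_one, cM_map, hq] at this
      have hmin : minpoly k (a : A) = Polynomial.X ^ n - 1 := by
        refine (minpoly.unique_of_degree_le_degree_minpoly k _ ?_ ?_ ?_).symm
        · simpa using Polynomial.monic_X_pow_sub_C (1 : k) hn.ne'
        · simp [han]
        · rw [Polynomial.degree_eq_natDegree (minpoly.ne_zero ha), ← hn']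
          exact le_of_eq (Polynomial.degree_X_pow_sub_C hn (1 : k))
      have h0 : f (Polynomial.toLaurent (minpoly k (a : A) * w)) = 0 := by
        have e : f (T 1) ^ n = 1 := congrArg Units.val this
        rw [map_mul, map_mul, hmin, map_sub, Polynomial.toLaurent_X_pow, map_one, map_sub, show (T (n : ℤ) : k[T;T⁻¹]) = T 1 ^ n by rw [T_pow, mul_one], map_pow, e, map_one, sub_self, zero_mul]
      rw [RingHom.mem_ker]
      rw [hp, map_mul] at h0
      exact ((isUnit_T _).map f).mul_left_eq_zero.mp h0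
  · haveI : IsDedekindDomain k[T;T⁻¹] := IsLocalization.isDedekindDomain (Polynomial k)
      (M := Submonoid.powers (Polynomial.X : Polynomial k)) (powers_le_nonZeroDivisors_of_noZeroDivisors Polynomial.X_ne_zero) _
    haveI : Flat (mapA Φ).left := Flat.SpecMap_iff.mpr (flat_of_injective _ hinj)
    show Flat (q.inv.left ≫ (mapA Φ).left ≫ q.hom.left)
    infer_instance
  · have hint : Φ.toRingHom.IsIntegral := by
      have hT : ∀ (e : ℤ), Φ.toRingHom.IsIntegralElem (T e) := fun e => by
        have : (T e : k[T;T⁻¹]) ^ n = Φ (T e) := by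
          show _ = eval₂ _ (Tu ^ n) (T e)
          rw [eval₂_T, ← zpow_natCast Tu, ← zpow_mul, Tu_zpow, T_pow, mul_comm]
        exact ⟨Polynomial.X ^ n - Polynomial.C (T e), Polynomial.monic_X_pow_sub_C _ hn.ne', by
          rw [Polynomial.eval₂_sub, Polynomial.eval₂_X_pow, Polynomial.eval₂_C, this]
          exact sub_self _⟩
      intro z
      induction z using LaurentPolynomial.induction_on' with
      | add p q hp hq => exact hp.add _ hq
      | C_mul_T e c => exact ((by
          rw [show (C c : k[T;T⁻¹]) = Φ (algebraMap k _ c) from (Φ.commutes c).symm]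
          exact Φ.toRingHom.isIntegralElem_map) : Φ.toRingHom.IsIntegralElem (C c)).mul _ (hT e)
    haveI : Surjective (mapA Φ).left := ⟨hint.comap_surjective hinj⟩
    show Surjective (q.inv.left ≫ (mapA Φ).left ≫ q.hom.left)
    infer_instance

end

end Groth.Agent.LineIsog
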